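/-
Package B3 of the symmetric S3-amalgam lemma (helper71, topic KS12):
critical distance `b ≥ 3` is impossible.
-/
import Cfsg.Agent.Lib.Helper71.Sym.Words

set_option autoImplicit false

namespace Cfsg.Agent.Lib.Helper22.Sym

open Cfsg.Agent.Lib.Helper71.Sym

universe u

theorem pkgB3 : Cfsg.Agent.Lib.Helper71.Sym.PkgB3.{u} := by
  intro G _ _ H T Q x hA hZF w hL k hk hCR hC7 hSB hSF hc
  obtain ⟨⟨g, hg, hgc⟩, -⟩ := hk
  obtain ⟨u1, hu1, h', hh', rfl⟩ := wd_succ.1 hg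
  obtain ⟨u0, hu0, h, hh, rfl⟩ := wd_succ.1 hu1
  obtain ⟨h1, hh1, h2, hh2, h1T, h2T, h12⟩ := hZF.two_cosets
  -- two back slides
  have b1 : ¬ Zs H T ≤ cj (x * h1 * (u0 * h * x)) Q := hSB _ hu1 _ hh' hgc _ hh1 h1T
  have e1 : x * h1 * (u0 * h * x) = (x * h1 * u0) * h * x := by simp only [mul_assoc]
  rw [e1] at b1
  have hv : x * h1 * u0 ∈ Wd H x (k + 1) := wd_left_mem hu0 hh1
  have b2 : ¬ Zs H T ≤ cj (x * h1 * (x * h1 * u0)) Q := hSB _ hv _ hh b1 _ hh1 h1T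
  -- two forward slides
  have key : ∀ a ∈ H, a ∉ T → ∀ a' ∈ H, a' ∉ T →
      ¬ Zs H T ≤ cj (u0 * a * x * a' * x) Q := by
    intro a ha haT a' ha' ha'T
    have f1 : ¬ Zs H T ≤ cj ((x * h1 * u0) * a * x) Q := hSF _ hv _ hh1 b2 _ ha haT
    have e2 : (x * h1 * u0) * a * x = x * h1 * (u0 * a * x) := by simp only [mul_assoc]
    rw [e2] at f1
    have hv2 : u0 * a * x ∈ Wd H x (k + 1) := wd_succ_mem hu0 ha
    exact hSF _ hv2 _ hh1 f1 _ ha' ha'T
  have hc' : x * w * x⁻¹ ∈ Zs H T ⊓ Subgroup.centralizer (H : Set G) := hc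
  have hcH : ∀ y ∈ H, y * (x * w * x⁻¹) = (x * w * x⁻¹) * y := by
    intro y hy
    have h3 := (Subgroup.mem_inf.1 hc').2
    rw [Subgroup.mem_centralizer_iff] at h3
    exact h3 y hy
  have hx2w : (x * x) * w = w * (x * x) := hL.w_T _ hA.hx2
  have s1 : x * w = (x * w * x⁻¹) * x := by group
  have s2 : x * (x * w * x⁻¹) = w * x := by
    have h4 : x * (x * w * x⁻¹) = (x * x) * w * x⁻¹ := by group
    rw [h4, hx2w]; group
  have cent : ∀ a ∈ H, a ∉ T → (u0 * a) * w = w * (u0 * a) := by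
    intro a ha haT
    have hmem : u0 * a * x * h1 * x ∈ Wd H x (k + 2) :=
      wd_succ_mem (wd_succ_mem hu0 ha) hh1
    have hc7 := (hC7 _ hmem (key a ha haT h1 hh1 h1T)).cent
    have hc1 := hcH h1 hh1
    have e3 : u0 * a * x * h1 * x * w = u0 * a * w * (x * h1 * x) := by
      calc u0 * a * x * h1 * x * w = u0 * a * x * h1 * (x * w) := by simp only [mul_assoc]
        _ = u0 * a * x * h1 * ((x * w * x⁻¹) * x) := by rw [← s1]
        _ = u0 * a * x * (h1 * (x * w * x⁻¹)) * x := by simp only [mul_assoc]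
        _ = u0 * a * x * ((x * w * x⁻¹) * h1) * x := by rw [hc1]
        _ = u0 * a * (x * (x * w * x⁻¹)) * h1 * x := by simp only [mul_assoc]
        _ = u0 * a * (w * x) * h1 * x := by rw [s2]
        _ = u0 * a * w * (x * h1 * x) := by simp only [mul_assoc]
    have e4 : u0 * a * w * (x * h1 * x) = w * (u0 * a) * (x * h1 * x) := by
      rw [← e3, hc7]; simp only [mul_assoc]
    exact mul_right_cancel e4
  have c1 := cent h1 hh1 h1T
  have c2 := cent h2 hh2 h2T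
  have e5 : h1 * w * h1⁻¹ = u0⁻¹ * w * u0 := by
    have h5 : u0⁻¹ * (u0 * h1 * w) * h1⁻¹ = u0⁻¹ * (w * (u0 * h1)) * h1⁻¹ := by rw [c1]
    simpa [mul_assoc] using h5
  have e6 : h2 * w * h2⁻¹ = u0⁻¹ * w * u0 := by
    have h5 : u0⁻¹ * (u0 * h2 * w) * h2⁻¹ = u0⁻¹ * (w * (u0 * h2)) * h2⁻¹ := by rw [c2]
    simpa [mul_assoc] using h5
  have e7 : h1 * w * h1⁻¹ = h2 * w * h2⁻¹ := e5.trans e6.symm
  have e8 : h1⁻¹ * h2 * w = w * (h1⁻¹ * h2) := by
    calc h1⁻¹ * h2 * w = h1⁻¹ * (h2 * w * h2⁻¹) * h2 := by group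
      _ = h1⁻¹ * (h1 * w * h1⁻¹) * h2 := by rw [e7]
      _ = w * (h1⁻¹ * h2) := by group
  exact h12 (hL.w_cent _ (H.mul_mem (H.inv_mem hh1) hh2) e8)

end Cfsg.Agent.Lib.Helper22.Sym
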