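/-
Package SF of the symmetric S3-amalgam lemma (helper71, topic KS12):
the forward slide follows from the back slide by inverting words.
-/
import Cfsg.Agent.Lib.Helper71.Sym.Words

set_option autoImplicit false

namespace Cfsg.Agent.Lib.Helper22.Sym

open Cfsg.Agent.Lib.Helper71.Sym

universe u

theorem pkgSF : Cfsg.Agent.Lib.Helper71.Sym.PkgSF.{u} := by
  intro G _ _ H T Q x hA hZF k hk hCR hSB
  intro u hu h hh hcrit j hj hjT hle
  have hx2 : x * x ∈ H := hA.x2H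
  have hg : x * h * u ∈ Wd H x (k + 1) := wd_left_mem hu hh
  have hCRg := hCR (x * h * u) hg hcrit
  have hu' : u⁻¹ * (x * x) ∈ Wd H x k := wd_inv hx2 hu
  have hh' : (x * x)⁻¹ * h⁻¹ ∈ H := H.mul_mem (H.inv_mem hx2) (H.inv_mem hh)
  have hg' : ¬ Zs H T ≤ cj (u⁻¹ * (x * x) * ((x * x)⁻¹ * h⁻¹) * x) Q := by
    intro hle'
    apply hCRg.gZ_not
    rw [le_cj_iff] at hle'
    have e : (u⁻¹ * (x * x) * ((x * x)⁻¹ * h⁻¹) * x)⁻¹ = (x * x)⁻¹ * (x * h * u) := by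
      simp [mul_assoc]
    rw [e, cj_mul, cj_le_iff, inv_inv, hA.cjQ hx2] at hle'
    exact hle'
  have hj'' : (x * x)⁻¹ * j⁻¹ ∈ H := H.mul_mem (H.inv_mem hx2) (H.inv_mem hj)
  have hj''T : (x * x)⁻¹ * j⁻¹ ∉ T := by
    intro hmem
    apply hjT
    have h1 : j⁻¹ ∈ T := by
      have h0 := T.mul_mem hA.hx2 hmem
      have e0 : x * x * ((x * x)⁻¹ * j⁻¹) = j⁻¹ := by group
      rw [e0] at h0
      exact h0
    have h3 := T.inv_mem h1
    rw [inv_inv] at h3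
    exact h3
  have h2 := hSB _ hu' _ hh' hg' _ hj'' hj''T
  have hg2 : x * ((x * x)⁻¹ * j⁻¹) * (u⁻¹ * (x * x)) ∈ Wd H x (k + 1) :=
    wd_left_mem hu' hj''
  have hCR2 := hCR _ hg2 h2
  apply hCR2.gZ_not
  rw [le_cj_iff] at hle
  have e : x * ((x * x)⁻¹ * j⁻¹) * (u⁻¹ * (x * x)) = (u * j * x)⁻¹ * (x * x) := by
    simp [mul_assoc]
  rw [e, cj_mul, hZF.cjZ hx2]
  exact hle

end Cfsg.Agent.Lib.Helper22.Sym
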